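import Cfsg.Prelude.Def_Transfer
import Cfsg.Prelude.Def_Spor_J4
import Cfsg.Agent.Lib.J4Dce59.Orbits
import Cfsg.Agent.Lib.J4Dce59.Simple
import Cfsg.Agent.Lib.J4Out38.Base

/-!
# The rank seven action of a group isomorphic to `J₄` on the cosets of `2^11:M24`
-/

set_option autoImplicit false
set_option maxRecDepth 20000

namespace Cfsg.Agent.Lib.J4Rank7_96

open Subgroup Cfsg.Agent.Lib.J4Dce59
open Cfsg.Agent.Lib.J4Out38 (Vsub pv PFacts)

theorem pfacts : PFacts := ⟨model_facts.1, model_facts.2.trans (by norm_num)⟩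

/-- The elementary abelian subgroup of order `2 ^ 11`. -/
noncomputable def bigE : Subgroup J := Vsub.map phi

theorem bigE_elem : Cfsg.IsElementaryAbelian 2 bigE := by
  have h : ∀ p ∈ Vsub, ∀ q ∈ Vsub, p * q = q * p ∧ p * p = 1 := by
    intro p hp q hq
    obtain ⟨v, hv, rfl⟩ := pfacts.mem_Vsub.1 hp
    obtain ⟨w, hw, rfl⟩ := pfacts.mem_Vsub.1 hq
    rw [pfacts.pv_mul hw hv, pfacts.pv_mul hv hw, pfacts.pv_mul hv hv, Nat.xor_comm, Nat.xor_self,
      J4Out38.pv_zero]
    exact ⟨rfl, rfl⟩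
  refine ⟨⟨⟨fun a b => Subtype.ext ?_⟩⟩, fun a ha => ?_⟩
  · obtain ⟨p, hp, hpa⟩ := a.2
    obtain ⟨q, hq, hqb⟩ := b.2
    show (a : J) * b = b * a
    rw [← hpa, ← hqb, ← map_mul, ← map_mul, (h p hp q hq).1]
  · obtain ⟨p, hp, rfl⟩ := ha
    rw [pow_two, ← map_mul, (h p hp p hp).2, map_one]

theorem card_bigE : Nat.card bigE = 2 ^ 11 := by
  have hf : Finite P := pfacts.finite
  rw [bigE, card_map_of_injective phi_injective]
  have hb : Function.Bijective fun v : Fin 2048 => (⟨pv v, J4Out38.pv_mem _⟩ : Vsub) := by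
    refine ⟨fun v w hvw => Fin.ext (J4Out38.pv_inj v.2 w.2 (congrArg Subtype.val hvw)), fun p => ?_⟩
    obtain ⟨v, hv, hp⟩ := pfacts.mem_Vsub.1 p.2
    exact ⟨⟨v, hv⟩, Subtype.ext hp⟩
  rw [← Nat.card_congr (Equiv.ofBijective _ hb), Nat.card_fin]
  norm_num

theorem normalizer_bigE : normalizer (bigE : Set J) = env.H := by
  have hle : env.H ≤ normalizer (bigE : Set J) := by
    rintro _ ⟨p, rfl⟩
    refine le_normalizer_map phi ⟨p, ?_, rfl⟩
    have := pfacts.Vsub_normal
    show p ∈ normalizer (Vsub : Set P)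
    rw [Subgroup.normalizer_eq_top]
    exact mem_top p
  rcases H_maximal _ hle with h | h
  · exact h
  exfalso
  have := isSimple_J
  rcases (normalizer_eq_top_iff.1 h).eq_bot_or_eq_top with h1 | h1
  · have := card_bigE; rw [h1] at this; simp at this
  · have := card_bigE; rw [h1, card_top, card_J] at this; norm_num at this

variable {G : Type*} [Group G]

theorem map_elem {A : Type*} [Group A] (f : A ≃* G) (W : Subgroup A)
    (hW : Cfsg.IsElementaryAbelian 2 W) (hc : Nat.card W = 2 ^ 11) :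
    Cfsg.IsElementaryAbelian 2 (W.map f.toMonoidHom) ∧ Nat.card (W.map f.toMonoidHom) = 2 ^ 11 := by
  refine ⟨⟨⟨⟨fun a b => Subtype.ext ?_⟩⟩, fun a ha => ?_⟩, ?_⟩
  · obtain ⟨p, hp, hpa⟩ := a.2
    obtain ⟨q, hq, hqb⟩ := b.2
    show (a : G) * b = b * a
    rw [← hpa, ← hqb, ← map_mul, ← map_mul]
    exact congrArg _ (congrArg Subtype.val (hW.1.is_comm.comm ⟨p, hp⟩ ⟨q, hq⟩))
  · obtain ⟨p, hp, rfl⟩ := ha
    rw [← map_pow, hW.2 p hp, map_one]
  · rw [card_map_of_injective (f := f.toMonoidHom) f.injective, hc]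

theorem exists_map_eq [Finite G] (e : J ≃* G)
    (hu : ∀ T : Sylow 2 G, ∃! V : Subgroup G, V ≤ (T : Subgroup G) ∧
      Cfsg.IsElementaryAbelian 2 V ∧ Nat.card ↥V = 2 ^ 11)
    (V : Subgroup G) (hV : Cfsg.IsElementaryAbelian 2 V) (hcard : Nat.card ↥V = 2 ^ 11) :
    ∃ f : J ≃* G, bigE.map f.toMonoidHom = V := by
  obtain ⟨hW, hWc⟩ := map_elem e bigE bigE_elem card_bigE
  have : Fact (Nat.Prime 2) := ⟨Nat.prime_two⟩
  obtain ⟨T, hT⟩ := (IsPGroup.of_card hWc : IsPGroup 2 ↥(bigE.map e.toMonoidHom)).exists_le_sylow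
  obtain ⟨T', hT'⟩ := (IsPGroup.of_card hcard : IsPGroup 2 ↥V).exists_le_sylow
  obtain ⟨g, hg⟩ := MulAction.exists_smul_eq G T T'
  obtain ⟨hW', hWc'⟩ := map_elem (MulAut.conj g) _ hW hWc
  refine ⟨e.trans (MulAut.conj g), ?_⟩
  obtain ⟨U, -, huniq⟩ := hu T'
  rw [show (e.trans (MulAut.conj g)).toMonoidHom =
    (MulAut.conj g : G ≃* G).toMonoidHom.comp e.toMonoidHom from rfl, ← map_map]
  refine (huniq _ ⟨?_, hW', hWc'⟩).trans (huniq _ ⟨hT', hV, hcard⟩).symm
  rw [← hg]
  exact map_mono hT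

/-- The suborbit listed in position `i` of the increasing list of lengths. -/
def order7 : Fin 7 → ℕ := ![0, 1, 4, 2, 3, 5, 6]

theorem order7_lt : ∀ i, order7 i < 7 := by decide

theorem order7_inj : Function.Injective order7 := by decide

theorem order7_surj : ∀ j < 7, ∃ i, order7 i = j := by decide

theorem order7_sizes :
    (List.ofFn fun i => szs (order7 i)) = [1, 15180, 28336, 3400320, 32643072, 54405120, 82575360] := by
  decide +kernel

/-- The index and the suborbits of the normaliser of a `2^11`. -/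
theorem suborbits [Finite G] (hiso : Cfsg.Spor.IsoJ4 G)
    (hu : ∀ T : Sylow 2 G, ∃! V : Subgroup G, V ≤ (T : Subgroup G) ∧
      Cfsg.IsElementaryAbelian 2 V ∧ Nat.card ↥V = 2 ^ 11)
    (V : Subgroup G) (hV : Cfsg.IsElementaryAbelian 2 V) (hcard : Nat.card ↥V = 2 ^ 11) :
    (normalizer (V : Set G)).index = 173067389 ∧
      ∃ c : Fin 7 → G ⧸ normalizer (V : Set G),
        (∀ i j : Fin 7, i ≠ j → MulAction.orbit ↥(normalizer (V : Set G)) (c i) ≠
          MulAction.orbit ↥(normalizer (V : Set G)) (c j)) ∧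
        (∀ x : G ⧸ normalizer (V : Set G), ∃ i : Fin 7,
          x ∈ MulAction.orbit ↥(normalizer (V : Set G)) (c i)) ∧
        (List.ofFn fun i => (MulAction.orbit ↥(normalizer (V : Set G)) (c i)).ncard) =
          [1, 15180, 28336, 3400320, 32643072, 54405120, 82575360] := by
  obtain ⟨e⟩ := hiso
  obtain ⟨f, hf⟩ := exists_map_eq e.symm hu V hV hcard
  have hN : normalizer (V : Set G) = env.H.map f.toMonoidHom := by
    rw [← hf, ← map_equiv_normalizer_eq, normalizer_bigE]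
  generalize hNdef : normalizer (V : Set G) = N
  rw [hNdef] at hN
  have hmem : ∀ a : J, f a ∈ N ↔ a ∈ env.H := fun a => by
    rw [hN]; exact Subgroup.mem_map_iff_mem f.injective
  have hwd : ∀ a b : J, ((a : env.Pts) = (b : env.Pts)) ↔
      ((f a : G ⧸ N) = (f b : G ⧸ N)) := fun a b => by
    rw [QuotientGroup.eq, QuotientGroup.eq, ← map_inv, ← map_mul, hmem]
  let ψ : env.Pts → G ⧸ N := fun x => Quotient.liftOn' x (fun a : J => (f a : G ⧸ N))
    fun a b hab => (hwd a b).1 (Quotient.sound' hab)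
  have hψ : ∀ a : J, ψ (a : env.Pts) = (f a : G ⧸ N) := fun _ => rfl
  have hinj : Function.Injective ψ := by
    intro x y
    induction x using QuotientGroup.induction_on with
    | _ a => induction y using QuotientGroup.induction_on with
      | _ b => exact fun h => (hwd a b).2 h
  have hsmul : ∀ (a : J) (x : env.Pts), ψ (a • x) = (f a) • ψ x := by
    intro a x
    induction x using QuotientGroup.induction_on with
    | _ b =>
      show ψ ((a * b : J) : env.Pts) = ((f a * f b : G) : G ⧸ N)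
      rw [hψ, map_mul]
  have horb : ∀ j, MulAction.orbit ↥N (ψ (env.pt Data.D j)) = ψ '' Orbit j := by
    intro j
    ext y
    constructor
    · rintro ⟨⟨n, hn⟩, rfl⟩
      rw [hN] at hn
      obtain ⟨a, ha, rfl⟩ := hn
      exact ⟨a • env.pt Data.D j, ⟨a, ha, rfl⟩, hsmul a _⟩
    · rintro ⟨x, ⟨a, ha, rfl⟩, rfl⟩
      refine ⟨⟨f a, (hmem a).2 ha⟩, ?_⟩
      show (f a : G) • ψ (env.pt Data.D j) = _
      exact (hsmul a _).symm
  refine ⟨?_, fun i => ψ (env.pt Data.D (order7 i)), ?_, ?_, ?_⟩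
  · rw [hN, index_map_of_bijective (f := f.toMonoidHom) f.bijective, index_H]
  · intro i j hij h
    rw [horb, horb] at h
    obtain ⟨x, hx, he⟩ := h.subset ⟨_, pt_mem_orbit (order7 i), rfl⟩
    rw [hinj he] at hx
    exact hij (order7_inj (orbit_eq_of_mem (order7_lt i) (order7_lt j) (pt_mem_orbit _) hx))
  · intro x
    obtain ⟨g, rfl⟩ := QuotientGroup.mk_surjective x
    obtain ⟨j, hj, hx⟩ := cover_orbit ((f.symm g : J) : env.Pts)
    obtain ⟨i, rfl⟩ := order7_surj j hj
    refine ⟨i, ?_⟩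
    rw [horb]
    exact ⟨_, hx, by rw [hψ, MulEquiv.apply_symm_apply]⟩
  · rw [← order7_sizes]
    congr 1
    funext i
    rw [horb, Set.ncard_image_of_injective _ hinj, ncard_orbit (order7_lt i)]

end Cfsg.Agent.Lib.J4Rank7_96
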